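import Cfsg.Agent.Lib.Helper6.TC11
import Cfsg.Agent.Lib.Helper6.TCD.Suz6a.Par
set_option autoImplicit false
set_option maxRecDepth 1000000
set_option Elab.async false
open Cfsg.Agent.Lib.Helper6.TC
namespace Cfsg.Agent.Lib.Helper6.TCD.Suz6a
theorem chkR6_0 : chkFix R6 0 50000 = true := by decide +kernel
theorem chkR6_1 : chkFix R6 50000 20866 = true := by decide +kernel
theorem chkR7_0 : chkFix R7 0 29134 = true := by decide +kernel
theorem chkR7_1 : chkFix R7 29134 41732 = true := by decide +kernel
theorem chkR10_0 : chkFix R10 0 6890 = true := by decide +kernel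
theorem chkR10_1 : chkFix R10 6890 41666 = true := by decide +kernel
theorem chkR10_2 : chkFix R10 48556 22310 = true := by decide +kernel
theorem chkR11_0 : chkFix R11 0 29035 = true := by decide +kernel
theorem chkR11_1 : chkFix R11 29035 41831 = true := by decide +kernel
theorem chkR12_0 : chkFix R12 0 20669 = true := by decide +kernel
end Cfsg.Agent.Lib.Helper6.TCD.Suz6a
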