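import Cfsg.Agent.Lib.Helper6.TC11
import Cfsg.Agent.Lib.Helper6.TCD.Suz6a.Par
set_option autoImplicit false
set_option maxRecDepth 1000000
set_option Elab.async false
open Cfsg.Agent.Lib.Helper6.TC
namespace Cfsg.Agent.Lib.Helper6.TCD.Suz6a
theorem chkR12_1 : chkFix R12 20669 50197 = true := by decide +kernel
theorem chkR13_0 : chkFix R13 0 12303 = true := by decide +kernel
theorem chkR13_1 : chkFix R13 12303 58563 = true := by decide +kernel
theorem chkR14_0 : chkFix R14 0 3937 = true := by decide +kernel
theorem chkR14_1 : chkFix R14 3937 62500 = true := by decide +kernel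
theorem chkR14_2 : chkFix R14 66437 4429 = true := by decide +kernel
theorem chkR15_0 : chkFix R15 0 58071 = true := by decide +kernel
theorem chkR15_1 : chkFix R15 58071 12795 = true := by decide +kernel
theorem chkR16_0 : chkFix R16 0 49705 = true := by decide +kernel
theorem chkR16_1 : chkFix R16 49705 21161 = true := by decide +kernel
theorem chkR17_0 : chkFix R17 0 41339 = true := by decide +kernel
end Cfsg.Agent.Lib.Helper6.TCD.Suz6a
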