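import Cfsg.Agent.Lib.Helper6.TC11
import Cfsg.Agent.Lib.Helper6.TCD.Suz6a.Par
set_option autoImplicit false
set_option maxRecDepth 1000000
set_option Elab.async false
open Cfsg.Agent.Lib.Helper6.TC
namespace Cfsg.Agent.Lib.Helper6.TCD.Suz6a
theorem chkR41_2 : chkFix R41 57358 13508 = true := by decide +kernel
theorem chkR42_0 : chkFix R42 0 22206 = true := by decide +kernel
theorem chkR42_1 : chkFix R42 22206 35714 = true := by decide +kernel
theorem chkR42_2 : chkFix R42 57920 12946 = true := by decide +kernel
theorem chkR43_0 : chkFix R43 0 22768 = true := by decide +kernel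
theorem chkR43_1 : chkFix R43 22768 35714 = true := by decide +kernel
theorem chkR43_2 : chkFix R43 58482 12384 = true := by decide +kernel
theorem chkR44_0 : chkFix R44 0 23330 = true := by decide +kernel
theorem chkR44_1 : chkFix R44 23330 35714 = true := by decide +kernel
end Cfsg.Agent.Lib.Helper6.TCD.Suz6a
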