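import Cfsg.Agent.Lib.Helper6.TC11
import Cfsg.Agent.Lib.Helper6.TCD.Suz6a.Par
set_option autoImplicit false
set_option maxRecDepth 1000000
set_option Elab.async false
open Cfsg.Agent.Lib.Helper6.TC
namespace Cfsg.Agent.Lib.Helper6.TCD.Suz6a
theorem chkR44_2 : chkFix R44 59044 11822 = true := by decide +kernel
theorem chkR45_0 : chkFix R45 0 27874 = true := by decide +kernel
theorem chkR45_1 : chkFix R45 27874 41666 = true := by decide +kernel
theorem chkR45_2 : chkFix R45 69540 1326 = true := by decide +kernel
theorem chkR46_0 : chkFix R46 0 34577 = true := by decide +kernel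
theorem chkR46_1 : chkFix R46 34577 35714 = true := by decide +kernel
theorem chkR46_2 : chkFix R46 70291 575 = true := by decide +kernel
theorem chkR47_0 : chkFix R47 0 35139 = true := by decide +kernel
theorem chkR47_1 : chkFix R47 35139 35714 = true := by decide +kernel
end Cfsg.Agent.Lib.Helper6.TCD.Suz6a
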