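import Cfsg.Agent.Lib.Helper6.TC11
import Cfsg.Agent.Lib.Helper6.TCD.Suz6a.Par
set_option autoImplicit false
set_option maxRecDepth 1000000
set_option Elab.async false
open Cfsg.Agent.Lib.Helper6.TC
namespace Cfsg.Agent.Lib.Helper6.TCD.Suz6a
theorem chkR47_2 : chkFix R47 70853 13 = true := by decide +kernel
theorem chkR48_0 : chkFix R48 0 62477 = true := by decide +kernel
theorem chkR48_1 : chkFix R48 62477 8389 = true := by decide +kernel
theorem chkR49_0 : chkFix R49 0 36074 = true := by decide +kernel
theorem chkR49_1 : chkFix R49 36074 34792 = true := by decide +kernel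
theorem chkR50_0 : chkFix R50 0 10312 = true := by decide +kernel
theorem chkR50_1 : chkFix R50 10312 60554 = true := by decide +kernel
theorem chkR51_0 : chkFix R51 0 1112 = true := by decide +kernel
theorem chkR51_1 : chkFix R51 1112 35714 = true := by decide +kernel
theorem chkR51_2 : chkFix R51 36826 34040 = true := by decide +kernel
theorem chkR52_0 : chkFix R52 0 1674 = true := by decide +kernel
end Cfsg.Agent.Lib.Helper6.TCD.Suz6a
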