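import Cfsg.Agent.Lib.Helper6.TC11
import Cfsg.Agent.Lib.Helper6.TCD.Suz6a.Par
set_option autoImplicit false
set_option maxRecDepth 1000000
set_option Elab.async false
open Cfsg.Agent.Lib.Helper6.TC
namespace Cfsg.Agent.Lib.Helper6.TCD.Suz6a
theorem chkR52_1 : chkFix R52 1674 35714 = true := by decide +kernel
theorem chkR52_2 : chkFix R52 37388 33478 = true := by decide +kernel
theorem chkR53_0 : chkFix R53 0 1956 = true := by decide +kernel
theorem chkR53_1 : chkFix R53 1956 31250 = true := by decide +kernel
theorem chkR53_2 : chkFix R53 33206 31250 = true := by decide +kernel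
theorem chkR53_3 : chkFix R53 64456 6410 = true := by decide +kernel
theorem chkR54_0 : chkFix R54 0 49680 = true := by decide +kernel
theorem chkR54_1 : chkFix R54 49680 21186 = true := by decide +kernel
theorem chkR55_0 : chkFix R55 0 27542 = true := by decide +kernel
end Cfsg.Agent.Lib.Helper6.TCD.Suz6a
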