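import Cfsg.Agent.Lib.Helper6.TC11
import Cfsg.Agent.Lib.Helper6.TCD.Suz6a.Par
set_option autoImplicit false
set_option maxRecDepth 1000000
set_option Elab.async false
open Cfsg.Agent.Lib.Helper6.TC
namespace Cfsg.Agent.Lib.Helper6.TCD.Suz6a
theorem chkR55_1 : chkFix R55 27542 41666 = true := by decide +kernel
theorem chkR55_2 : chkFix R55 69208 1658 = true := by decide +kernel
theorem chkR56_0 : chkFix R56 0 60013 = true := by decide +kernel
theorem chkR56_1 : chkFix R56 60013 10853 = true := by decide +kernel
theorem chkR57_0 : chkFix R57 0 29512 = true := by decide +kernel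
theorem chkR57_1 : chkFix R57 29512 35714 = true := by decide +kernel
theorem chkR57_2 : chkFix R57 65226 5640 = true := by decide +kernel
theorem chkR58_0 : chkFix R58 0 30074 = true := by decide +kernel
theorem chkR58_1 : chkFix R58 30074 35714 = true := by decide +kernel
end Cfsg.Agent.Lib.Helper6.TCD.Suz6a
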