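import Cfsg.Agent.Lib.Helper6.TC11
import Cfsg.Agent.Lib.Helper6.TCD.Suz6a.Par
set_option autoImplicit false
set_option maxRecDepth 1000000
set_option Elab.async false
open Cfsg.Agent.Lib.Helper6.TC
namespace Cfsg.Agent.Lib.Helper6.TCD.Suz6a
theorem chkR61_2 : chkFix R61 51943 18923 = true := by decide +kernel
theorem chkR62_0 : chkFix R62 0 6755 = true := by decide +kernel
theorem chkR62_1 : chkFix R62 6755 10869 = true := by decide +kernel
theorem chkR62_2 : chkFix R62 17624 10869 = true := by decide +kernel
theorem chkR62_3 : chkFix R62 28493 10869 = true := by decide +kernel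
theorem chkR62_4 : chkFix R62 39362 10869 = true := by decide +kernel
theorem chkR62_5 : chkFix R62 50231 10869 = true := by decide +kernel
end Cfsg.Agent.Lib.Helper6.TCD.Suz6a
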