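import Cfsg.Agent.Lib.Helper6.TC11
import Cfsg.Agent.Lib.Helper6.TCD.Suz6a.Par
set_option autoImplicit false
set_option maxRecDepth 1000000
set_option Elab.async false
open Cfsg.Agent.Lib.Helper6.TC
namespace Cfsg.Agent.Lib.Helper6.TCD.Suz6a
theorem chkR62_6 : chkFix R62 61100 9766 = true := by decide +kernel
theorem chkR63_0 : chkFix R63 0 1335 = true := by decide +kernel
theorem chkR63_1 : chkFix R63 1335 13157 = true := by decide +kernel
theorem chkR63_2 : chkFix R63 14492 13157 = true := by decide +kernel
theorem chkR63_3 : chkFix R63 27649 13157 = true := by decide +kernel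
theorem chkR63_4 : chkFix R63 40806 13157 = true := by decide +kernel
theorem chkR63_5 : chkFix R63 53963 13157 = true := by decide +kernel
end Cfsg.Agent.Lib.Helper6.TCD.Suz6a
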