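import Cfsg.Agent.Lib.Helper6.TC11
import Cfsg.Agent.Lib.Helper6.TCD.Suz6a.Par
set_option autoImplicit false
set_option maxRecDepth 1000000
set_option Elab.async false
open Cfsg.Agent.Lib.Helper6.TC
namespace Cfsg.Agent.Lib.Helper6.TCD.Suz6a
theorem chkR63_6 : chkFix R63 67120 3746 = true := by decide +kernel
theorem chkR64_0 : chkFix R64 0 2292 = true := by decide +kernel
theorem chkR64_1 : chkFix R64 2292 3205 = true := by decide +kernel
theorem chkR64_2 : chkFix R64 5497 3205 = true := by decide +kernel
theorem chkR64_3 : chkFix R64 8702 3205 = true := by decide +kernel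
theorem chkR64_4 : chkFix R64 11907 3205 = true := by decide +kernel
theorem chkR64_5 : chkFix R64 15112 3205 = true := by decide +kernel
end Cfsg.Agent.Lib.Helper6.TCD.Suz6a
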