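import Cfsg.Agent.Lib.Helper6.TC11
import Cfsg.Agent.Lib.Helper6.TCD.Suz6a.Par
set_option autoImplicit false
set_option maxRecDepth 1000000
set_option Elab.async false
open Cfsg.Agent.Lib.Helper6.TC
namespace Cfsg.Agent.Lib.Helper6.TCD.Suz6a
theorem chkR17_1 : chkFix R17 41339 29527 = true := by decide +kernel
theorem chkR18_0 : chkFix R18 0 13189 = true := by decide +kernel
theorem chkR18_1 : chkFix R18 13189 25000 = true := by decide +kernel
theorem chkR18_2 : chkFix R18 38189 25000 = true := by decide +kernel
theorem chkR18_3 : chkFix R18 63189 7677 = true := by decide +kernel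
theorem chkR19_0 : chkFix R19 0 43307 = true := by decide +kernel
theorem chkR19_1 : chkFix R19 43307 27559 = true := by decide +kernel
theorem chkR20_0 : chkFix R20 0 19966 = true := by decide +kernel
theorem chkR20_1 : chkFix R20 19966 35714 = true := by decide +kernel
end Cfsg.Agent.Lib.Helper6.TCD.Suz6a
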