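import Cfsg.Agent.Lib.Helper6.TC11
import Cfsg.Agent.Lib.Helper6.TCD.Suz6a.Par
set_option autoImplicit false
set_option maxRecDepth 1000000
set_option Elab.async false
open Cfsg.Agent.Lib.Helper6.TC
namespace Cfsg.Agent.Lib.Helper6.TCD.Suz6a
theorem chkR64_12 : chkFix R64 37547 3205 = true := by decide +kernel
theorem chkR64_13 : chkFix R64 40752 3205 = true := by decide +kernel
theorem chkR64_14 : chkFix R64 43957 3205 = true := by decide +kernel
theorem chkR64_15 : chkFix R64 47162 3205 = true := by decide +kernel
theorem chkR64_16 : chkFix R64 50367 3205 = true := by decide +kernel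
theorem chkR64_17 : chkFix R64 53572 3205 = true := by decide +kernel
end Cfsg.Agent.Lib.Helper6.TCD.Suz6a
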