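import Cfsg.Agent.Lib.Helper6.TC11
import Cfsg.Agent.Lib.Helper6.TCD.Suz6a.Par
set_option autoImplicit false
set_option maxRecDepth 1000000
set_option Elab.async false
open Cfsg.Agent.Lib.Helper6.TC
namespace Cfsg.Agent.Lib.Helper6.TCD.Suz6a
theorem chkR64_18 : chkFix R64 56777 3205 = true := by decide +kernel
theorem chkR64_19 : chkFix R64 59982 3205 = true := by decide +kernel
theorem chkR64_20 : chkFix R64 63187 3205 = true := by decide +kernel
theorem chkR64_21 : chkFix R64 66392 3205 = true := by decide +kernel
theorem chkR64_22 : chkFix R64 69597 1269 = true := by decide +kernel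
end Cfsg.Agent.Lib.Helper6.TCD.Suz6a
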