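import Cfsg.Agent.Lib.Helper6.TC11
import Cfsg.Agent.Lib.Helper6.TCD.Suz6a.Par
set_option autoImplicit false
set_option maxRecDepth 1000000
set_option Elab.async false
open Cfsg.Agent.Lib.Helper6.TC
namespace Cfsg.Agent.Lib.Helper6.TCD.Suz6a
theorem chkR20_2 : chkFix R20 55680 15186 = true := by decide +kernel
theorem chkR21_0 : chkFix R21 0 20528 = true := by decide +kernel
theorem chkR21_1 : chkFix R21 20528 35714 = true := by decide +kernel
theorem chkR21_2 : chkFix R21 56242 14624 = true := by decide +kernel
theorem chkR22_0 : chkFix R22 0 36908 = true := by decide +kernel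
theorem chkR22_1 : chkFix R22 36908 33958 = true := by decide +kernel
theorem chkR23_0 : chkFix R23 0 28542 = true := by decide +kernel
theorem chkR23_1 : chkFix R23 28542 42324 = true := by decide +kernel
theorem chkR24_0 : chkFix R24 0 8070 = true := by decide +kernel
theorem chkR24_1 : chkFix R24 8070 25000 = true := by decide +kernel
end Cfsg.Agent.Lib.Helper6.TCD.Suz6a
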