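import Cfsg.Agent.Lib.Helper6.TC11
import Cfsg.Agent.Lib.Helper6.TCD.Suz6a.Par
set_option autoImplicit false
set_option maxRecDepth 1000000
set_option Elab.async false
open Cfsg.Agent.Lib.Helper6.TC
namespace Cfsg.Agent.Lib.Helper6.TCD.Suz6a
theorem chkR24_2 : chkFix R24 33070 25000 = true := by decide +kernel
theorem chkR24_3 : chkFix R24 58070 12796 = true := by decide +kernel
theorem chkR25_0 : chkFix R25 0 20340 = true := by decide +kernel
theorem chkR25_1 : chkFix R25 20340 41666 = true := by decide +kernel
theorem chkR25_2 : chkFix R25 62006 8860 = true := by decide +kernel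
theorem chkR26_0 : chkFix R26 0 28120 = true := by decide +kernel
theorem chkR26_1 : chkFix R26 28120 35714 = true := by decide +kernel
theorem chkR26_2 : chkFix R26 63834 7032 = true := by decide +kernel
theorem chkR27_0 : chkFix R27 0 28682 = true := by decide +kernel
end Cfsg.Agent.Lib.Helper6.TCD.Suz6a
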