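import Cfsg.Agent.Lib.Helper6.TC11
import Cfsg.Agent.Lib.Helper6.TCD.Suz6a.Par
set_option autoImplicit false
set_option maxRecDepth 1000000
set_option Elab.async false
open Cfsg.Agent.Lib.Helper6.TC
namespace Cfsg.Agent.Lib.Helper6.TCD.Suz6a
theorem chkR27_1 : chkFix R27 28682 35714 = true := by decide +kernel
theorem chkR27_2 : chkFix R27 64396 6470 = true := by decide +kernel
theorem chkR28_0 : chkFix R28 0 34118 = true := by decide +kernel
theorem chkR28_1 : chkFix R28 34118 36748 = true := by decide +kernel
theorem chkR29_0 : chkFix R29 0 4918 = true := by decide +kernel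
theorem chkR29_1 : chkFix R29 4918 41666 = true := by decide +kernel
theorem chkR29_2 : chkFix R29 46584 24282 = true := by decide +kernel
theorem chkR30_0 : chkFix R30 0 26077 = true := by decide +kernel
theorem chkR30_1 : chkFix R30 26077 44789 = true := by decide +kernel
theorem chkR31_0 : chkFix R31 0 11807 = true := by decide +kernel
end Cfsg.Agent.Lib.Helper6.TCD.Suz6a
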