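import Cfsg.Agent.Lib.Helper6.TC11
import Cfsg.Agent.Lib.Helper6.TCD.Suz6a.Par
set_option autoImplicit false
set_option maxRecDepth 1000000
set_option Elab.async false
open Cfsg.Agent.Lib.Helper6.TC
namespace Cfsg.Agent.Lib.Helper6.TCD.Suz6a
theorem chkR33_1 : chkFix R33 1682 35714 = true := by decide +kernel
theorem chkR33_2 : chkFix R33 37396 33470 = true := by decide +kernel
theorem chkR34_0 : chkFix R34 0 3927 = true := by decide +kernel
theorem chkR34_1 : chkFix R34 3927 62500 = true := by decide +kernel
theorem chkR34_2 : chkFix R34 66427 4439 = true := by decide +kernel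
theorem chkR35_0 : chkFix R35 0 58061 = true := by decide +kernel
theorem chkR35_1 : chkFix R35 58061 12805 = true := by decide +kernel
theorem chkR36_0 : chkFix R36 0 28397 = true := by decide +kernel
theorem chkR36_1 : chkFix R36 28397 35714 = true := by decide +kernel
end Cfsg.Agent.Lib.Helper6.TCD.Suz6a
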