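import Cfsg.Agent.Lib.Helper6.TC11
import Cfsg.Agent.Lib.Helper6.TCD.Suz6a.Par
set_option autoImplicit false
set_option maxRecDepth 1000000
set_option Elab.async false
open Cfsg.Agent.Lib.Helper6.TC
namespace Cfsg.Agent.Lib.Helper6.TCD.Suz6a
theorem chkR36_2 : chkFix R36 64111 6755 = true := by decide +kernel
theorem chkR37_0 : chkFix R37 0 28959 = true := by decide +kernel
theorem chkR37_1 : chkFix R37 28959 35714 = true := by decide +kernel
theorem chkR37_2 : chkFix R37 64673 6193 = true := by decide +kernel
theorem chkR38_0 : chkFix R38 0 12915 = true := by decide +kernel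
theorem chkR38_1 : chkFix R38 12915 15625 = true := by decide +kernel
theorem chkR38_2 : chkFix R38 28540 15625 = true := by decide +kernel
theorem chkR38_3 : chkFix R38 44165 15625 = true := by decide +kernel
end Cfsg.Agent.Lib.Helper6.TCD.Suz6a
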