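import Cfsg.Agent.Lib.Helper6.TC11
import Cfsg.Agent.Lib.Helper6.TCD.Suz6a.Par
set_option autoImplicit false
set_option maxRecDepth 1000000
set_option Elab.async false
open Cfsg.Agent.Lib.Helper6.TC
namespace Cfsg.Agent.Lib.Helper6.TCD.Suz6a
theorem chkR38_4 : chkFix R38 59790 11076 = true := by decide +kernel
theorem chkR39_0 : chkFix R39 0 12130 = true := by decide +kernel
theorem chkR39_1 : chkFix R39 12130 41666 = true := by decide +kernel
theorem chkR39_2 : chkFix R39 53796 17070 = true := by decide +kernel
theorem chkR40_0 : chkFix R40 0 21082 = true := by decide +kernel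
theorem chkR40_1 : chkFix R40 21082 35714 = true := by decide +kernel
theorem chkR40_2 : chkFix R40 56796 14070 = true := by decide +kernel
theorem chkR41_0 : chkFix R41 0 21644 = true := by decide +kernel
theorem chkR41_1 : chkFix R41 21644 35714 = true := by decide +kernel
end Cfsg.Agent.Lib.Helper6.TCD.Suz6a
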