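import Cfsg.Agent.Lib.Helper6.TCD.Suz6a.CPa0
import Cfsg.Agent.Lib.Helper6.TCD.Suz6a.CPa1
import Cfsg.Agent.Lib.Helper6.TCD.Suz6a.CPa2
import Cfsg.Agent.Lib.Helper6.TCD.Suz6a.CPa3
import Cfsg.Agent.Lib.Helper6.TCD.Suz6a.CPa4
import Cfsg.Agent.Lib.Helper6.TCD.Suz6a.CPa5
import Cfsg.Agent.Lib.Helper6.TCD.Suz6a.CPa6
import Cfsg.Agent.Lib.Helper6.TCD.Suz6a.CPa7
import Cfsg.Agent.Lib.Helper6.TCD.Suz6a.CPa8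
import Cfsg.Agent.Lib.Helper6.TCD.Suz6a.CPa9
import Cfsg.Agent.Lib.Helper6.TCD.Suz6a.CPa10
import Cfsg.Agent.Lib.Helper6.TCD.Suz6a.CR0
import Cfsg.Agent.Lib.Helper6.TCD.Suz6a.CR1
import Cfsg.Agent.Lib.Helper6.TCD.Suz6a.CR2
import Cfsg.Agent.Lib.Helper6.TCD.Suz6a.CR3
import Cfsg.Agent.Lib.Helper6.TCD.Suz6a.CR4
import Cfsg.Agent.Lib.Helper6.TCD.Suz6a.CR5
import Cfsg.Agent.Lib.Helper6.TCD.Suz6a.CR6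
import Cfsg.Agent.Lib.Helper6.TCD.Suz6a.CR7
import Cfsg.Agent.Lib.Helper6.TCD.Suz6a.CR8
import Cfsg.Agent.Lib.Helper6.TCD.Suz6a.CR9
import Cfsg.Agent.Lib.Helper6.TCD.Suz6a.CR10
import Cfsg.Agent.Lib.Helper6.TCD.Suz6a.CR11
import Cfsg.Agent.Lib.Helper6.TCD.Suz6a.CR12
import Cfsg.Agent.Lib.Helper6.TCD.Suz6a.CR13
import Cfsg.Agent.Lib.Helper6.TCD.Suz6a.CR14
import Cfsg.Agent.Lib.Helper6.TCD.Suz6a.CR15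
import Cfsg.Agent.Lib.Helper6.TCD.Suz6a.CR16
import Cfsg.Agent.Lib.Helper6.TCD.Suz6a.CR17
import Cfsg.Agent.Lib.Helper6.TCD.Suz6a.CR18
import Cfsg.Agent.Lib.Helper6.TCD.Suz6a.CR19
import Cfsg.Agent.Lib.Helper6.TCD.Suz6a.CR20
import Cfsg.Agent.Lib.Helper6.TCD.Suz6a.CR21
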