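import Cfsg.Agent.Lib.Helper6.TC11
import Cfsg.Agent.Lib.Helper6.TCD.Suz6a.Par
set_option autoImplicit false
set_option maxRecDepth 1000000
set_option Elab.async false
open Cfsg.Agent.Lib.Helper6.TC
namespace Cfsg.Agent.Lib.Helper6.TCD.Suz6a
theorem chkR58_2 : chkFix R58 65788 5078 = true := by decide +kernel
theorem chkR59_0 : chkFix R59 0 26806 = true := by decide +kernel
theorem chkR59_1 : chkFix R59 26806 31250 = true := by decide +kernel
theorem chkR59_2 : chkFix R59 58056 12810 = true := by decide +kernel
theorem chkR60_0 : chkFix R60 0 16391 = true := by decide +kernel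
theorem chkR60_1 : chkFix R60 16391 27777 = true := by decide +kernel
theorem chkR60_2 : chkFix R60 44168 26698 = true := by decide +kernel
theorem chkR61_0 : chkFix R61 0 1943 = true := by decide +kernel
theorem chkR61_1 : chkFix R61 1943 50000 = true := by decide +kernel
end Cfsg.Agent.Lib.Helper6.TCD.Suz6a
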