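import Cfsg.Agent.Lib.Helper6.TC11
import Cfsg.Agent.Lib.Helper6.TCD.Suz6a.Par
set_option autoImplicit false
set_option maxRecDepth 1000000
set_option Elab.async false
open Cfsg.Agent.Lib.Helper6.TC
namespace Cfsg.Agent.Lib.Helper6.TCD.Suz6a
theorem chkR31_1 : chkFix R31 11807 41666 = true := by decide +kernel
theorem chkR31_2 : chkFix R31 53473 17393 = true := by decide +kernel
theorem chkR32_0 : chkFix R32 0 9102 = true := by decide +kernel
theorem chkR32_1 : chkFix R32 9102 15625 = true := by decide +kernel
theorem chkR32_2 : chkFix R32 24727 15625 = true := by decide +kernel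
theorem chkR32_3 : chkFix R32 40352 15625 = true := by decide +kernel
theorem chkR32_4 : chkFix R32 55977 14889 = true := by decide +kernel
theorem chkR33_0 : chkFix R33 0 1682 = true := by decide +kernel
end Cfsg.Agent.Lib.Helper6.TCD.Suz6a
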